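import Groth.Prelude.Def_W4c3multigrregularBiProj
import Groth.Agent.L03.ShStab.QuadricCoh
import Groth.Agent.L21.DefAmple.Basic
import Groth.Agent.L22.Inter.Fga
import Groth.Agent.L16.ProjSpace.Dim
import Groth.Agent.L13.PairBlow.Basic
import Groth.Agent.L20.ResAmple
import Groth.Agent.L29.DCoh.TensorPerfect
import Groth.Agent.L16.NegPow.Gen
import Groth.Agent.L03.AdjLin.Tools
import Groth.Agent.S4643

/-!
# Bigraded regularity on the product of two lines
-/

set_option autoImplicit false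
set_option backward.isDefEq.respectTransparency false
set_option backward.isDefEq.respectTransparency.types false
set_option linter.style.haveILetI false
set_option linter.unusedSectionVars false

universe u

open CategoryTheory CategoryTheory.Limits AlgebraicGeometry

noncomputable section

namespace Groth.L29.BiReg

open Groth.L16.CohLinear (hmap hmap_comp exact_hmap_hmap exact_hmap_delta exact_delta_hmap)
open Groth.L00.Tensor (tensorIso tensorAssoc tensorUnitRight tensorUnitLeft tensorRightF tensorComm tensorMap)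
open Groth.L21.DefAmple (subsingleton_HH_of_iso gg_tensor)

variable (k : Type u) [Field k]

/-- The product of two lines. -/
abbrev Q : Scheme.{u} := W4c3multigrregular.biProj 1 1 k

/-- The line bundle of bidegree `(a, b)`. -/
abbrev OO (a b : ℤ) : (Q k).Modules := W4c3multigrregular.lineBundle 1 1 k a b

instance isProper_Q : IsProper ((Q k) ↘ Spec (CommRingCat.of k)) :=
  inferInstanceAs (IsProper (pullback.fst (CohB1.ProjSpace.toSpec 1 k) (CohB1.ProjSpace.toSpec 1 k) ≫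
    CohB1.ProjSpace.toSpec 1 k))

instance isNoetherian_Q : IsNoetherian (Q k) := Groth.L21.RR.isNoetherian_of_proper (X := Q k) k

theorem dim_Q : topologicalKrullDim ↥(Q k) ≤ (2 : ℕ) := by
  rw [Groth.Agent.S4643.result (CohB1.ProjSpace.toSpec 1 k) (CohB1.ProjSpace.toSpec 1 k),
    Groth.L16.ProjSpace.topologicalKrullDim_eq_of_field (n := 1) k]
  rfl

theorem subsingleton_of_gt (M : (Q k).Modules) {n : ℕ} (hn : 2 < n) : Subsingleton (Coh.HH (Q k) M n) :=
  Groth.L22.Inter.subsingleton_HH_of_dim (dim_Q k) M hn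

theorem nonempty_OO_add {a b a' b' a'' b'' : ℤ} (ha : a + a' = a'') (hb : b + b' = b'') :
    Nonempty (CohB1.tensorMod (OO k a b) (OO k a' b') ≅ OO k a'' b'') :=
  Groth.L03.ShStab.QuadricCoh.nonempty_O2_add k ha hb

theorem isFinLocFree_OO (a b : ℤ) : FlatMod.IsFinLocFree (OO k a b) :=
  Groth.L20.ResDescent.isFinLocFree_of_isInvertible (Groth.L03.ShStab.QuadricCoh.isInvertible_O2 k a b)

theorem subsingleton_OO (a b : ℤ) (n : ℕ)
    (h : ∀ p q : ℕ, p + q = n → ¬ (Groth.L03.ShStab.QuadricCoh.NZ p a ∧ Groth.L03.ShStab.QuadricCoh.NZ q b)) :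
    Subsingleton (Coh.HH (Q k) (OO k a b) n) :=
  Groth.L03.ShStab.QuadricCoh.subsingleton_O2 k (rfl : _ = ((Q k) ↘ Spec (CommRingCat.of k))) a b n h

variable {k}

/-- An epimorphism is surjective on cohomology in degree two. -/
theorem surjective_h2 {M N : (Q k).Modules} (f : M ⟶ N) [Epi f] : Function.Surjective (hmap f 2) := by
  have hS : (ShortComplex.mk (kernel.ι f) f (kernel.condition f)).ShortExact :=
    { exact := ShortComplex.exact_of_f_is_kernel _ (kernelIsKernel f) }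
  exact fun y => (exact_hmap_delta hS 2 y).1 ((subsingleton_of_gt k _ (by omega)).elim _ _)

theorem subsingleton_sigma {b : ℕ} (B : (Q k).Modules) (n : ℕ) (hB : Subsingleton (Coh.HH (Q k) B n)) :
    Subsingleton (Coh.HH (Q k) (CohB1.tensorMod (∐ fun _ : Fin b => Coh.structureModule (Q k)) B) n) :=
  Groth.L03.ShStab.QuadricCoh.subsingleton_sigma_tensor _ _ _ fun _ =>
    subsingleton_HH_of_iso (tensorUnitLeft B).symm n hB

/-- Tensoring with a globally generated module keeps the vanishing in degree two. -/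
theorem subsingleton_h2_gg {A : (Q k).Modules} (hA : Coh.IsCoh A) (hgg : Curv2.IsGloballyGenerated A)
    {B : (Q k).Modules} (hB : Subsingleton (Coh.HH (Q k) B 2)) :
    Subsingleton (Coh.HH (Q k) (CohB1.tensorMod A B) 2) := by
  obtain ⟨b, π, hπ⟩ := Groth.L02.Quot.exists_epi_free_of_gg hA hgg
  haveI := hπ
  haveI := Groth.L18.RelCounit.epi_tensorMap_right π B
  haveI := subsingleton_sigma (b := b) B 2 hB
  exact (surjective_h2 (tensorMap π (𝟙 B))).subsingleton

theorem subsingleton_X₃ {S : ShortComplex (Q k).Modules} (hS : S.ShortExact) (n : ℕ)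
    (h2 : Subsingleton (Coh.HH (Q k) S.X₂ n)) (h1 : Subsingleton (Coh.HH (Q k) S.X₁ (n + 1))) :
    Subsingleton (Coh.HH (Q k) S.X₃ n) := by
  refine subsingleton_of_forall_eq 0 fun x => ?_
  obtain ⟨y, rfl⟩ := (exact_hmap_delta hS n x).1 (h1.elim _ _)
  rw [h2.elim y 0, map_zero]

theorem subsingleton_X₁ {S : ShortComplex (Q k).Modules} (hS : S.ShortExact) (n : ℕ)
    (h3 : Subsingleton (Coh.HH (Q k) S.X₃ n)) (h2 : Subsingleton (Coh.HH (Q k) S.X₂ (n + 1))) :
    Subsingleton (Coh.HH (Q k) S.X₁ (n + 1)) := by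
  refine subsingleton_of_forall_eq 0 fun x => ?_
  obtain ⟨y, rfl⟩ := (exact_delta_hmap hS n x).1 (h2.elim _ _)
  rw [h3.elim y 0, map_zero]

/-- The step of Mumford's argument in degree one. -/
theorem subsingleton_h1_gg {A : (Q k).Modules} (hA : Coh.IsCoh A) (hgg : Curv2.IsGloballyGenerated A)
    {B : (Q k).Modules} (hB : FlatMod.IsFinLocFree B) (hBgg : Curv2.IsGloballyGenerated B)
    {ℓ : (Q k).Modules} (hℓ : FlatMod.IsFinLocFree ℓ) (hℓ2 : Subsingleton (Coh.HH (Q k) ℓ 2))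
    (hAℓ : Subsingleton (Coh.HH (Q k) (CohB1.tensorMod A ℓ) 1))
    (hBℓ : Subsingleton (Coh.HH (Q k) (CohB1.tensorMod B ℓ) 1)) :
    Subsingleton (Coh.HH (Q k) (CohB1.tensorMod A (CohB1.tensorMod B ℓ)) 1) := by
  obtain ⟨b, π, hπ⟩ := Groth.L02.Quot.exists_epi_free_of_gg hA hgg
  haveI := hπ
  have hS : (ShortComplex.mk (kernel.ι π) π (kernel.condition π)).ShortExact :=
    { exact := ShortComplex.exact_of_f_is_kernel _ (kernelIsKernel π) }
  have hK : Subsingleton (Coh.HH (Q k) (CohB1.tensorMod (kernel π) ℓ) 2) :=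
    subsingleton_X₁ (Groth.L13.PairBlow.shortExact_tensor hℓ hS) 1 hAℓ (subsingleton_sigma ℓ 2 hℓ2)
  have hKB : Subsingleton (Coh.HH (Q k) (CohB1.tensorMod (kernel π) (CohB1.tensorMod B ℓ)) 2) :=
    subsingleton_HH_of_iso ((tensorAssoc _ _ _).symm ≪≫ tensorIso (tensorComm _ _) (Iso.refl _) ≪≫
      tensorAssoc _ _ _) 2
      (subsingleton_h2_gg (Groth.L16.NegPow.isCoh_of_isFinLocFree hB) hBgg hK)
  exact subsingleton_X₃ (Groth.L13.PairBlow.shortExact_tensor
    (Groth.L29.DC.isFinLocFree_tensor hB hℓ) hS) 1 (subsingleton_sigma _ 1 hBℓ) hKB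

/-- Regularity in bidegree `(0, 0)`. -/
def Reg (T : (Q k).Modules) : Prop :=
  ∀ u₁ u₂ : ℕ, 0 < u₁ + u₂ →
    Subsingleton (Coh.HH (Q k) (CohB1.tensorMod T (OO k (-(u₁ : ℤ)) (-(u₂ : ℤ)))) (u₁ + u₂))

theorem Reg.of_iso {T T' : (Q k).Modules} (e : T ≅ T') (h : Reg T) : Reg T' := fun u₁ u₂ hu =>
  subsingleton_HH_of_iso (tensorIso e (Iso.refl _)) _ (h u₁ u₂ hu)

theorem nonempty_twist_twist (F : (Q k).Modules) {a b a' b' a'' b'' : ℤ} (ha : a + a' = a'') (hb : b + b' = b'') :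
    Nonempty (CohB1.tensorMod (CohB1.tensorMod F (OO k a b)) (OO k a' b') ≅ CohB1.tensorMod F (OO k a'' b'')) :=
  ⟨tensorAssoc _ _ _ ≪≫ tensorIso (Iso.refl _) (nonempty_OO_add k ha hb).some⟩

theorem isBiReg_iff (F : (Q k).Modules) (p q : ℤ) :
    W4c3multigrregular.IsBiReg 1 1 k F p q ↔ Reg (W4c3multigrregular.twistBi 1 1 k F p q) := by
  refine ⟨fun h u₁ u₂ hu => ?_, fun h u₁ u₂ hu => ?_⟩
  · obtain ⟨e⟩ := nonempty_twist_twist F (a := p) (b := q) (a' := -(u₁ : ℤ)) (b' := -(u₂ : ℤ))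
      (a'' := p - u₁) (b'' := q - u₂) (by ring) (by ring)
    exact subsingleton_HH_of_iso e.symm _ (h u₁ u₂ hu)
  · obtain ⟨e⟩ := nonempty_twist_twist F (a := p) (b := q) (a' := -(u₁ : ℤ)) (b' := -(u₂ : ℤ))
      (a'' := p - u₁) (b'' := q - u₂) (by ring) (by ring)
    exact subsingleton_HH_of_iso e _ (h u₁ u₂ hu)

theorem subsingleton_OO_neg {u₁ u₂ : ℕ} (hu : u₁ + u₂ ≤ 2) :
    Subsingleton (Coh.HH (Q k) (OO k (-(u₁ : ℤ)) (-(u₂ : ℤ))) 2) := by
  refine subsingleton_OO k _ _ _ fun p q hpq hpq' => ?_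
  rcases hpq' with ⟨h1 | h1, h2 | h2⟩ <;> omega

/-- Regular globally generated modules multiply. -/
theorem Reg.tensor {A B : (Q k).Modules} (hA : FlatMod.IsFinLocFree A) (hB : FlatMod.IsFinLocFree B)
    (hAgg : Curv2.IsGloballyGenerated A) (hBgg : Curv2.IsGloballyGenerated B) (hrA : Reg A) (hrB : Reg B) :
    Reg (CohB1.tensorMod A B) := by
  intro u₁ u₂ hu
  refine subsingleton_HH_of_iso (tensorAssoc A B _).symm _ ?_
  have hAc := Groth.L16.NegPow.isCoh_of_isFinLocFree hA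
  rcases le_or_gt 3 (u₁ + u₂) with h | h
  · exact subsingleton_of_gt k _ (by omega)
  · rcases (show u₁ + u₂ = 1 ∨ u₁ + u₂ = 2 by omega) with h1 | h1
    · have hA1 := hrA u₁ u₂ hu
      have hB1 := hrB u₁ u₂ hu
      rw [h1] at hA1 hB1 ⊢
      exact subsingleton_h1_gg hAc hAgg hB hBgg (isFinLocFree_OO k _ _) (subsingleton_OO_neg (by omega)) hA1 hB1
    · have hB2 := hrB u₁ u₂ hu
      rw [h1] at hB2 ⊢
      exact subsingleton_h2_gg hAc hAgg hB2

theorem nonempty_twist_tensor (G₁ G₂ : (Q k).Modules) (p q m n : ℤ) :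
    Nonempty (CohB1.tensorMod (W4c3multigrregular.twistBi 1 1 k G₁ p q) (W4c3multigrregular.twistBi 1 1 k G₂ m n) ≅
      W4c3multigrregular.twistBi 1 1 k (CohB1.tensorMod G₁ G₂) (p + m) (q + n)) := by
  obtain ⟨e⟩ := nonempty_OO_add k (rfl : p + m = p + m) (rfl : q + n = q + n)
  exact ⟨tensorAssoc _ _ _ ≪≫ tensorIso (Iso.refl _) ((tensorAssoc _ _ _).symm ≪≫
    tensorIso (tensorComm _ _) (Iso.refl _) ≪≫ tensorAssoc _ _ _) ≪≫ (tensorAssoc _ _ _).symm ≪≫
    tensorIso (Iso.refl _) e⟩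

theorem isFinLocFree_twistBi {G : (Q k).Modules} (hG : FlatMod.IsFinLocFree G) (p q : ℤ) :
    FlatMod.IsFinLocFree (W4c3multigrregular.twistBi 1 1 k G p q) :=
  Groth.L29.DC.isFinLocFree_tensor hG (isFinLocFree_OO k p q)

/-- The tensor product of regular modules with globally generated twists is regular. -/
theorem isBiReg_tensor {G₁ G₂ : (Q k).Modules} (hG₁ : FlatMod.IsFinLocFree G₁) (hG₂ : FlatMod.IsFinLocFree G₂)
    (p q m n : ℤ) (hreg₁ : W4c3multigrregular.IsBiReg 1 1 k G₁ p q)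
    (hreg₂ : W4c3multigrregular.IsBiReg 1 1 k G₂ m n)
    (hgg₁ : Curv2.IsGloballyGenerated (W4c3multigrregular.twistBi 1 1 k G₁ p q))
    (hgg₂ : Curv2.IsGloballyGenerated (W4c3multigrregular.twistBi 1 1 k G₂ m n)) :
    W4c3multigrregular.IsBiReg 1 1 k (CohB1.tensorMod G₁ G₂) (p + m) (q + n) := by
  rw [isBiReg_iff]
  exact Reg.of_iso (nonempty_twist_tensor G₁ G₂ p q m n).some
    (Reg.tensor (isFinLocFree_twistBi hG₁ p q) (isFinLocFree_twistBi hG₂ m n) hgg₁ hgg₂
      ((isBiReg_iff G₁ p q).1 hreg₁) ((isBiReg_iff G₂ m n).1 hreg₂))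

end Groth.L29.BiReg
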