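import Groth.Agent.L12.ExtSh.Exterior
import Groth.Agent.L12.ExtSh.Unique
import Groth.Agent.L12.ExtSh.Free
import Groth.Agent.L12.ExtSh.Filtration
import Groth.Agent.L03.ShStab.PreHom
import Groth.Agent.L21.RedCurve.Basic

/-!
# The next exterior power as a direct summand of a tensor product
-/

set_option autoImplicit false
set_option linter.style.haveILetI false
set_option backward.isDefEq.respectTransparency false
set_option backward.isDefEq.respectTransparency.types false

universe u

open CategoryTheory AlgebraicGeometry TopologicalSpace Opposite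

noncomputable section

namespace Groth.L29.BiReg

open Groth.L12.ExtSh (W wι wres wres_smul wres_ι wedgeMod wedgeEquiv W_induction rs_extPow_symm)
open Groth.L18.Frame (rs ro rs_rs rs_smul)
open Groth.L18.GenLoc (tens tens_rs)
open Groth.L22.WedgePair (mulW mulW_ιMulti)
open Groth.L04.KSh (appₗ)

variable {X : Scheme.{u}}

/-- The tensor product of sections as a bilinear map. -/
def tensB (L M : X.Modules) (U : X.affineOpens) :
    Γ(L, U.1) →ₗ[Γ(X, U.1)] Γ(M, U.1) →ₗ[Γ(X, U.1)] Γ(CohB1.tensorMod L M, U.1) :=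
  LinearMap.mk₂ Γ(X, U.1) (fun x y => tens L M U.1 x y)
    (fun x x' y => Groth.L19.ProjBdl.tens_add_left x x' y)
    (fun c x y => Groth.L12.FinCov.tmul_smul_left L M U.1 c x y)
    (fun x y y' => Groth.L12.FinCov.tmul_add_right L M U.1 x y y')
    (fun c x y => Groth.L12.FinCov.tmul_smul_right L M U.1 c x y)

variable (E : X.Modules) [Coh.IsQCoh E] (j : ℕ)

theorem rs_wedge_symm (i : ℕ) {U V : X.affineOpens} (h : V.1 ≤ U.1) (z : W E i U) :
    rs (wedgeMod E i) h ((wedgeEquiv E i U).symm z) = (wedgeEquiv E i V).symm (wres E i h z) :=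
  rs_extPow_symm (fun U => wedgeEquiv E i U)
    (fun U V h e => ((Groth.L12.ExtSh.extData E i).rs_eqv_symm h _).trans
      (congrArg ((Groth.L12.ExtSh.extData E i).eqv V).symm (wres_ι E i h e))) h z

theorem semi_ext (i : ℕ) {U V : X.affineOpens} (h : V.1 ≤ U.1) {N : X.Modules}
    (f : W E i U →ₗ[Γ(X, U.1)] Γ(N, U.1)) (g : W E i V →ₗ[Γ(X, V.1)] Γ(N, V.1))
    (hv : ∀ v : Fin i → Γ(E, U.1), rs N h (f (wι E i U v)) = g (wι E i V fun k => rs E h (v k))) (z : W E i U) :
    rs N h (f z) = g (wres E i h z) :=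
  DFunLike.congr_fun (Groth.L12.ExtSh.W_hom_ext E i
    (f := (N.presheaf.map (homOfLE h).op).hom.comp f.toAddMonoidHom) (g := g.toAddMonoidHom.comp (wres E i h))
    fun r v => by
      show rs N h (f (r • wι E i U v)) = g (wres E i h (r • wι E i U v))
      exact (congrArg (rs N h) (f.map_smul r _)).trans ((rs_smul N h r _).trans
        ((congrArg (ro h r • ·) ((hv v).trans (congrArg g (wres_ι E i h v)).symm)).trans
          ((g.map_smul (ro h r) _).symm.trans (congrArg g (wres_smul E i h r _)).symm)))) z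

/-- A section of the exterior power times a section. -/
def mulB (U : X.affineOpens) :
    Γ(wedgeMod E j, U.1) →ₗ[Γ(X, U.1)] Γ(E, U.1) →ₗ[Γ(X, U.1)] Γ(wedgeMod E (j + 1), U.1) :=
  ((((mulW (R := Γ(X, U.1)) (M := E.val.obj (op U.1)) (rfl : j + 1 = j + 1))).comp
      (wedgeEquiv E j U).toLinearMap).compl₂
    (exteriorPower.oneEquiv Γ(X, U.1) (E.val.obj (op U.1))).symm.toLinearMap).compr₂
    (wedgeEquiv E (j + 1) U).symm.toLinearMap

theorem oneEquiv_symm (U : X.affineOpens) (x : Γ(E, U.1)) :
    (exteriorPower.oneEquiv Γ(X, U.1) (E.val.obj (op U.1))).symm x = wι E 1 U fun _ => x := by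
  rw [LinearEquiv.symm_apply_eq, exteriorPower.oneEquiv_ιMulti]

theorem mulB_ι (U : X.affineOpens) (v : Fin j → Γ(E, U.1)) (x : Γ(E, U.1)) :
    mulB E j U ((wedgeEquiv E j U).symm (wι E j U v)) x =
      (wedgeEquiv E (j + 1) U).symm (wι E (j + 1) U (Fin.snoc v x)) := by
  show (wedgeEquiv E (j + 1) U).symm (mulW (rfl : j + 1 = j + 1) ((wedgeEquiv E j U) ((wedgeEquiv E j U).symm _)) _) = _
  rw [LinearEquiv.apply_symm_apply]
  refine congrArg (wedgeEquiv E (j + 1) U).symm ?_
  refine (congrArg (mulW (rfl : j + 1 = j + 1) (wι E j U v)) (oneEquiv_symm E U x)).trans ((mulW_ιMulti _ _ _).trans (congrArg (wι E (j + 1) U) ?_))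
  rw [Fin.append_right_eq_snoc]
  rfl

theorem mulB_rs {U V : X.affineOpens} (h : V.1 ≤ U.1) (a : Γ(wedgeMod E j, U.1)) (x : Γ(E, U.1)) :
    rs (wedgeMod E (j + 1)) h (mulB E j U a x) = mulB E j V (rs (wedgeMod E j) h a) (rs E h x) := by
  obtain ⟨z, rfl⟩ := (wedgeEquiv E j U).symm.surjective a
  refine (semi_ext E j h (((mulB E j U).flip x).comp (wedgeEquiv E j U).symm.toLinearMap)
    (((mulB E j V).flip (rs E h x)).comp (wedgeEquiv E j V).symm.toLinearMap) (fun v => ?_) z).trans
    (congrArg (fun s => mulB E j V s (rs E h x)) (rs_wedge_symm E j h z)).symm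
  show rs (wedgeMod E (j + 1)) h (mulB E j U ((wedgeEquiv E j U).symm (wι E j U v)) x) =
    mulB E j V ((wedgeEquiv E j V).symm (wι E j V fun k => rs E h (v k))) (rs E h x)
  rw [mulB_ι, mulB_ι, rs_wedge_symm, wres_ι]
  congr 2
  funext k
  refine Fin.lastCases ?_ (fun k => ?_) k <;> simp

/-- The multilinear map whose alternatization splits multiplication. -/
def splitM (U : X.affineOpens) :
    MultilinearMap Γ(X, U.1) (fun _ : Fin (j + 1) => E.val.obj (op U.1))
      Γ(CohB1.tensorMod (wedgeMod E j) E, U.1) :=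
  MultilinearMap.uncurryRight (((tensB (wedgeMod E j) E U).comp (wedgeEquiv E j U).symm.toLinearMap).compMultilinearMap
    (exteriorPower.ιMulti Γ(X, U.1) j (M := E.val.obj (op U.1))).toMultilinearMap)

theorem splitM_apply (U : X.affineOpens) (v : Fin (j + 1) → Γ(E, U.1)) :
    splitM E j U v = tens (wedgeMod E j) E U.1 ((wedgeEquiv E j U).symm (wι E j U (Fin.init v))) (v (Fin.last j)) := rfl

/-- The splitting on affine opens. -/
def splitL (U : X.affineOpens) :
    Γ(wedgeMod E (j + 1), U.1) →ₗ[Γ(X, U.1)] Γ(CohB1.tensorMod (wedgeMod E j) E, U.1) :=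
  (exteriorPower.alternatingMapLinearEquiv (MultilinearMap.alternatization (splitM E j U))).comp
    (wedgeEquiv E (j + 1) U).toLinearMap

theorem splitL_ι (U : X.affineOpens) (v : Fin (j + 1) → Γ(E, U.1)) :
    splitL E j U ((wedgeEquiv E (j + 1) U).symm (wι E (j + 1) U v)) =
      ∑ σ : Equiv.Perm (Fin (j + 1)), Equiv.Perm.sign σ • splitM E j U (fun k => v (σ k)) := by
  show exteriorPower.alternatingMapLinearEquiv _ ((wedgeEquiv E (j + 1) U) ((wedgeEquiv E (j + 1) U).symm _)) = _
  rw [LinearEquiv.apply_symm_apply, exteriorPower.alternatingMapLinearEquiv_apply_ιMulti,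
    MultilinearMap.alternatization_apply]
  rfl

theorem splitM_rs {U V : X.affineOpens} (h : V.1 ≤ U.1) (v : Fin (j + 1) → Γ(E, U.1)) :
    rs (CohB1.tensorMod (wedgeMod E j) E) h (splitM E j U v) = splitM E j V (fun k => rs E h (v k)) := by
  rw [splitM_apply, splitM_apply, tens_rs, rs_wedge_symm, wres_ι]
  rfl

theorem splitL_rs (U V : X.affineOpens) (h : V.1 ≤ U.1) (s : Γ(wedgeMod E (j + 1), U.1)) :
    splitL E j V (rs (wedgeMod E (j + 1)) h s) = rs (CohB1.tensorMod (wedgeMod E j) E) h (splitL E j U s) := by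
  obtain ⟨z, rfl⟩ := (wedgeEquiv E (j + 1) U).symm.surjective s
  refine (congrArg (splitL E j V) (rs_wedge_symm E (j + 1) h z)).trans
    (semi_ext E (j + 1) h ((splitL E j U).comp (wedgeEquiv E (j + 1) U).symm.toLinearMap)
      ((splitL E j V).comp (wedgeEquiv E (j + 1) V).symm.toLinearMap) (fun v => ?_) z).symm
  show rs (CohB1.tensorMod (wedgeMod E j) E) h
      (splitL E j U ((wedgeEquiv E (j + 1) U).symm (wι E (j + 1) U v))) =
    splitL E j V ((wedgeEquiv E (j + 1) V).symm (wι E (j + 1) V fun k => rs E h (v k)))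
  rw [splitL_ι, splitL_ι]
  refine (map_sum ((CohB1.tensorMod (wedgeMod E j) E).presheaf.map (homOfLE h).op).hom _ _).trans
    (Finset.sum_congr rfl fun σ _ => ?_)
  rw [Units.smul_def, Units.smul_def]
  exact (map_zsmul ((CohB1.tensorMod (wedgeMod E j) E).presheaf.map (homOfLE h).op).hom _ _).trans
    (congrArg _ (splitM_rs E j h fun k => v (σ k)))

omit [Coh.IsQCoh E] in
theorem split_alg {R M N : Type u} [CommRing R] [AddCommGroup M] [Module R M] [AddCommGroup N] [Module R N] {n : ℕ}
    (g : N →ₗ[R] ↥(⋀[R]^n M)) (m : MultilinearMap R (fun _ : Fin n => M) N)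
    (hg : g.compMultilinearMap m = (exteriorPower.ιMulti R n (M := M)).toMultilinearMap) (z : ↥(⋀[R]^n M)) :
    g (exteriorPower.alternatingMapLinearEquiv (MultilinearMap.alternatization m) z) =
      (n.factorial : R) • z := by
  have e1 : g.compAlternatingMap (MultilinearMap.alternatization m) = n.factorial • exteriorPower.ιMulti R n := by
    rw [← LinearMap.compMultilinearMap_alternatization, hg, AlternatingMap.coe_alternatization, Fintype.card_fin]
  have key : g.comp (exteriorPower.alternatingMapLinearEquiv (MultilinearMap.alternatization m)) =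
      (n.factorial : R) • LinearMap.id := by
    refine exteriorPower.linearMap_ext (AlternatingMap.ext fun v => ?_)
    simp only [LinearMap.compAlternatingMap_apply, LinearMap.comp_apply,
      exteriorPower.alternatingMapLinearEquiv_apply_ιMulti, LinearMap.smul_apply, LinearMap.id_apply]
    refine (congrArg (fun f => f v) e1).trans ?_
    rw [AlternatingMap.smul_apply, Nat.cast_smul_eq_nsmul]
  exact LinearMap.congr_fun key z

/-- Multiplication to the next exterior power has a section up to the factorial. -/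
theorem exists_mul_split :
    ∃ (s : wedgeMod E (j + 1) ⟶ CohB1.tensorMod (wedgeMod E j) E)
      (m : CohB1.tensorMod (wedgeMod E j) E ⟶ wedgeMod E (j + 1)),
      ∀ (U : X.affineOpens) (x : Γ(wedgeMod E (j + 1), U.1)),
        (s ≫ m).app U.1 x = ((j + 1).factorial : Γ(X, U.1)) • x := by
  obtain ⟨s, hs⟩ := Groth.L04.KSh.exists_hom_affine (fun U => splitL E j U) (fun U V h x => splitL_rs E j U V h x)
  obtain ⟨m, hm⟩ := Groth.L03.ShStab.PreHom.exists_hom_tensor (wedgeMod E j) E (wedgeMod E (j + 1))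
    (fun U => mulB E j U) (fun U V h a x => mulB_rs E j h a x)
  refine ⟨s, m, fun U x => ?_⟩
  let g : Γ(CohB1.tensorMod (wedgeMod E j) E, U.1) →ₗ[Γ(X, U.1)] W E (j + 1) U :=
    (wedgeEquiv E (j + 1) U).toLinearMap.comp (appₗ m U.1)
  have hg : g.compMultilinearMap (splitM E j U) =
      (exteriorPower.ιMulti Γ(X, U.1) (j + 1) (M := E.val.obj (op U.1))).toMultilinearMap := by
    refine MultilinearMap.ext fun v => ?_
    show (wedgeEquiv E (j + 1) U) (m.app U.1 (splitM E j U v)) = _
    rw [splitM_apply, hm, mulB_ι, LinearEquiv.apply_symm_apply, Fin.snoc_init_self]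
    rfl
  have key := split_alg g (splitM E j U) hg (wedgeEquiv E (j + 1) U x)
  refine (wedgeEquiv E (j + 1) U).injective ?_
  show (wedgeEquiv E (j + 1) U) (m.app U.1 (s.app U.1 x)) = _
  rw [hs, LinearEquiv.map_smul]
  exact key

/-- In characteristic zero the next exterior power is a direct summand of the tensor product. -/
theorem exists_retract (a : Coh.Γtop X) (ha : ((j + 1).factorial : Coh.Γtop X) * a = 1) :
    ∃ (s : wedgeMod E (j + 1) ⟶ CohB1.tensorMod (wedgeMod E j) E)
      (m : CohB1.tensorMod (wedgeMod E j) E ⟶ wedgeMod E (j + 1)), s ≫ m = 𝟙 _ := by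
  obtain ⟨s, m, h⟩ := exists_mul_split E j
  refine ⟨s, m ≫ Groth.L21.RedCurve.scal (wedgeMod E (j + 1)) a, ?_⟩
  rw [← Category.assoc]
  refine Groth.L04.KSh.hom_ext_affine fun U x => ?_
  show (Groth.L21.RedCurve.scal (wedgeMod E (j + 1)) a).app U.1 ((s ≫ m).app U.1 x) = x
  rw [Groth.L21.RedCurve.scal_app, h, smul_smul, mul_comm]
  have e := congrArg (Coh.resTop X (op U.1)) ha
  rw [map_mul, map_natCast, map_one] at e
  exact (congrArg (fun c : Γ(X, U.1) => c • x) e).trans (one_smul _ x)

end Groth.L29.BiReg
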