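import Groth.Agent.L29.BiReg.Basic
import Groth.Agent.L29.BiReg.Split
import Groth.Agent.L12.Kvb.Lambda
import Groth.Agent.L13.PointBlow.Acyclic

/-!
# Exterior powers of regular bundles on the product of two lines
-/

set_option autoImplicit false
set_option backward.isDefEq.respectTransparency false
set_option backward.isDefEq.respectTransparency.types false
set_option linter.style.haveILetI false

universe u

open CategoryTheory CategoryTheory.Limits AlgebraicGeometry

noncomputable section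

namespace Groth.L29.BiReg

open Groth.L16.CohLinear (hmap hmap_comp hmap_id)
open Groth.L00.Tensor (tensorIso tensorAssoc tensorUnitRight tensorUnitLeft tensorRightF tensorComm tensorMap)
open Groth.L12.ExtSh (wedgeMod)

variable {k : Type u} [Field k]

theorem reg_structure : Reg (k := k) (Coh.structureModule (Q k)) := by
  intro u₁ u₂ hu
  rcases le_or_gt 3 (u₁ + u₂) with h | h
  · exact subsingleton_of_gt k _ (by omega)
  · refine Groth.L21.DefAmple.subsingleton_HH_of_iso (tensorUnitLeft _).symm _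
      (subsingleton_OO k _ _ _ fun p q hpq hpq' => ?_)
    rcases hpq' with ⟨h1 | h1, h2 | h2⟩ <;> omega

theorem Reg.of_retract {T T' : (Q k).Modules} (s : T ⟶ T') (r : T' ⟶ T) (hsr : s ≫ r = 𝟙 T) (h : Reg T') :
    Reg T := fun u₁ u₂ hu => by
  haveI : Subsingleton (Coh.HH (Q k) ((tensorRightF (OO k (-(u₁ : ℤ)) (-(u₂ : ℤ)))).obj T') (u₁ + u₂)) := h u₁ u₂ hu
  have hinj : ∀ z, hmap ((tensorRightF (OO k (-(u₁ : ℤ)) (-(u₂ : ℤ)))).map r) (u₁ + u₂)
      (hmap ((tensorRightF (OO k (-(u₁ : ℤ)) (-(u₂ : ℤ)))).map s) (u₁ + u₂) z) = z := fun z => by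
    rw [← hmap_comp, ← CategoryTheory.Functor.map_comp, hsr, CategoryTheory.Functor.map_id]
    exact hmap_id _ z
  exact (Function.LeftInverse.injective hinj).subsingleton

theorem exists_inv_natCast [CharZero k] (n : ℕ) (hn : n ≠ 0) :
    ∃ a : Coh.Γtop (Q k), (n : Coh.Γtop (Q k)) * a = 1 := by
  let φ : k →+* Coh.Γtop (Q k) :=
    ((Scheme.ΓSpecIso (CommRingCat.of k)).inv ≫ ((Q k) ↘ Spec (CommRingCat.of k)).appTop).hom
  refine ⟨φ (n : k)⁻¹, ?_⟩
  rw [← map_natCast φ n, ← map_mul, mul_inv_cancel₀ (Nat.cast_ne_zero.2 hn), map_one]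

/-- The exterior powers of a regular bundle with globally generated twist. -/
theorem twistBi_wedge [CharZero k] {G : (Q k).Modules} [Coh.IsQCoh G] (hG : FlatMod.IsFinLocFree G) (p q : ℤ)
    (hreg : W4c3multigrregular.IsBiReg 1 1 k G p q)
    (hgg : Curv2.IsGloballyGenerated (W4c3multigrregular.twistBi 1 1 k G p q)) (j : ℕ) :
    Reg (W4c3multigrregular.twistBi 1 1 k (wedgeMod G j) (j * p) (j * q)) ∧
      Curv2.IsGloballyGenerated (W4c3multigrregular.twistBi 1 1 k (wedgeMod G j) (j * p) (j * q)) := by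
  induction j with
  | zero =>
    obtain ⟨e⟩ := Groth.L12.ExtSh.nonempty_iso_of_isExtPow (Groth.L12.ExtSh.isExtPow_wedgeMod G 0)
      (Groth.L12.Kvb.isExtPow_zero G)
    obtain ⟨e'⟩ := Groth.L03.ShStab.QuadricCoh.nonempty_O2_zero k
    have hz : W4c3multigrregular.twistBi 1 1 k (wedgeMod G 0) ((0 : ℕ) * p) ((0 : ℕ) * q) =
        CohB1.tensorMod (wedgeMod G 0) (OO k 0 0) := by simp [W4c3multigrregular.twistBi]
    let e'' : CohB1.tensorMod (wedgeMod G 0) (OO k 0 0) ≅ Coh.structureModule (Q k) :=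
      tensorIso e e' ≪≫ tensorUnitLeft _
    rw [hz]
    exact ⟨Reg.of_iso e''.symm reg_structure,
      Groth.L13.PointBlow.gg_of_epi e''.inv (Groth.L13.PointBlow.gg_structure _)⟩
  | succ j ih =>
    obtain ⟨ihr, ihgg⟩ := ih
    obtain ⟨a, ha⟩ := exists_inv_natCast (k := k) (j + 1).factorial (Nat.factorial_ne_zero _)
    obtain ⟨s, r, hsr⟩ := exists_retract G j a ha
    obtain ⟨e⟩ := nonempty_twist_tensor (wedgeMod G j) G (j * p) (j * q) p q
    have hf : FlatMod.IsFinLocFree (W4c3multigrregular.twistBi 1 1 k (wedgeMod G j) (j * p) (j * q)) :=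
      isFinLocFree_twistBi (Groth.L12.ExtSh.isFinLocFree_wedgeMod hG j) _ _
    have hT := Reg.of_iso e (Reg.tensor hf (isFinLocFree_twistBi hG p q) ihgg hgg ihr ((isBiReg_iff G p q).1 hreg))
    have hTgg := Groth.L13.PointBlow.gg_of_epi e.hom
      (Groth.L21.DefAmple.gg_tensor (Groth.L16.NegPow.isCoh_of_isFinLocFree hf) ihgg hgg)
    rw [show ((j + 1 : ℕ) : ℤ) * p = j * p + p by push_cast; ring,
      show ((j + 1 : ℕ) : ℤ) * q = j * q + q by push_cast; ring]
    let F := tensorRightF (OO k (j * p + p) (j * q + q))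
    have hF : F.map s ≫ F.map r = 𝟙 _ := by rw [← F.map_comp, hsr, F.map_id]
    haveI : IsSplitEpi (F.map r) := IsSplitEpi.mk' ⟨F.map s, hF⟩
    exact ⟨Reg.of_retract (F.map s) (F.map r) hF hT, Groth.L13.PointBlow.gg_of_epi (F.map r) hTgg⟩

/-- The statement for every exterior power. -/
theorem isBiReg_extPow [CharZero k] {G : (Q k).Modules} (hG : FlatMod.IsFinLocFree G) (p q : ℤ)
    (hreg : W4c3multigrregular.IsBiReg 1 1 k G p q)
    (hgg : Curv2.IsGloballyGenerated (W4c3multigrregular.twistBi 1 1 k G p q)) (j : ℕ)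
    {L : (Q k).Modules} (hL : ExtPow.IsExtPow j G L) :
    W4c3multigrregular.IsBiReg 1 1 k L (j * p) (j * q) := by
  haveI := Groth.L29.DC.PCQCoh.isQCoh_of_isFinLocFree hG
  obtain ⟨e⟩ := Groth.L12.ExtSh.nonempty_iso_of_isExtPow (Groth.L12.ExtSh.isExtPow_wedgeMod G j) hL
  exact (isBiReg_iff L _ _).2 (Reg.of_iso (tensorIso e (Iso.refl _)) (twistBi_wedge hG p q hreg hgg j).1)

end Groth.L29.BiReg
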